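import Groth.Agent.SiteBase.Horseshoe
import Groth.Agent.SiteBase.UnivDelta
import Mathlib.AlgebraicTopology.AlternatingFaceMapComplex
import Mathlib.Algebra.Homology.HomologicalComplexAbelian
import Mathlib.CategoryTheory.Abelian.RightDerived
import Mathlib.CategoryTheory.Limits.FunctorCategory.Finite
import Mathlib.CategoryTheory.Abelian.FunctorCategory

/-!
Right derived functors of the limit of cosimplicial objects are computed by the alternating coface complex.
-/

set_option autoImplicit false
set_option backward.isDefEq.respectTransparency false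
set_option backward.isDefEq.respectTransparency.types false

universe v u

open CategoryTheory CategoryTheory.Limits Simplicial Opposite AlgebraicTopology
open Groth.Agent.SiteBase

noncomputable section

namespace Groth.Agent.CosimpLim

variable {D : Type u} [Category.{v} D] [Abelian D]

lemma cx_d (F : SimplexCategory ⥤ D) (k : ℕ) :
    ((alternatingCofaceMapComplex D).obj F).d k (k + 1) =
      AlternatingCofaceMapComplex.objD (F : CosimplicialObject D) k := by
  exact CochainComplex.of_d (fun n => (F : CosimplicialObject D).obj ⦋n⦌) (AlternatingCofaceMapComplex.objD F) k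

/-! ### Cofree cosimplicial objects -/

section Cofree

variable [HasProducts.{0} D] (F : SimplexCategory ⥤ D)

/-- Index of the cofree object. -/
abbrev Idx (n : SimplexCategory) : Type := Σ m : SimplexCategory, (n ⟶ m)

omit [Abelian D] in
lemma π_congr {n : SimplexCategory} {m : SimplexCategory} {s t : n ⟶ m} (h : s = t) :
    Pi.π (fun p : Idx n => F.obj p.1) ⟨m, s⟩ = Pi.π (fun p : Idx n => F.obj p.1) ⟨m, t⟩ := by
  subst h; rfl

/-- The cofree cosimplicial object on the terms of `F`. -/
def cofree : SimplexCategory ⥤ D where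
  obj n := ∏ᶜ fun p : Idx n => F.obj p.1
  map {n n'} a := Pi.lift fun p => Pi.π (fun p : Idx n => F.obj p.1) ⟨p.1, a ≫ p.2⟩
  map_id n := Pi.hom_ext _ _ fun p => by
    rw [Pi.lift_π, Category.id_comp (X := ∏ᶜ fun p : Idx n => F.obj p.1)]
    exact π_congr F (Category.id_comp _)
  map_comp {n n' n''} a b := Pi.hom_ext _ _ fun p => by
    simp only [Category.assoc, Pi.lift_π]
    exact π_congr F (Category.assoc _ _ _)

/-- The unit of the cofree object. -/
def unit : F ⟶ cofree F where
  app n := Pi.lift (f := fun p : Idx n => F.obj p.1) fun p => F.map p.2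
  naturality n n' a := Pi.hom_ext _ _ fun p => by
    simp only [cofree, Category.assoc, Pi.lift_π, ← F.map_comp]

instance : Mono (unit F) := by
  have : ∀ n, Mono ((unit F).app n) := fun n => ⟨fun g h e => by
    have := congrArg (· ≫ Pi.π (fun p : Idx n => F.obj p.1) ⟨n, 𝟙 n⟩) e
    simpa [unit] using this⟩
  exact NatTrans.mono_of_mono_app _

/-- Prepend the initial vertex. -/
def cons0 {n : ℕ} {m : SimplexCategory} (s : ⦋n⦌ ⟶ m) : ⦋n + 1⦌ ⟶ m :=
  SimplexCategory.Hom.mk
    { toFun := Fin.cases 0 fun i => s.toOrderHom i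
      monotone' := fun i j h => by
        induction i using Fin.cases with
        | zero => simp
        | succ i =>
          induction j using Fin.cases with
          | zero => exact absurd h (by simp [Fin.le_def])
          | succ j => simpa using s.toOrderHom.monotone (Fin.succ_le_succ_iff.1 h) }

lemma δ_zero_cons0 {n : ℕ} {m : SimplexCategory} (s : ⦋n⦌ ⟶ m) : SimplexCategory.δ 0 ≫ cons0 s = s := by
  apply SimplexCategory.Hom.ext
  ext i : 2
  simp [cons0, SimplexCategory.δ]

lemma δ_succ_cons0 {n : ℕ} {m : SimplexCategory} (s : ⦋n + 1⦌ ⟶ m) (j : Fin (n + 2)) :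
    SimplexCategory.δ j.succ ≫ cons0 s = cons0 (SimplexCategory.δ j ≫ s) := by
  apply SimplexCategory.Hom.ext
  ext i : 2
  induction i using Fin.cases with
  | zero => simp [cons0, SimplexCategory.δ]
  | succ i => simp [cons0, SimplexCategory.δ]

/-- The contraction. -/
def contr (n : ℕ) : (cofree F).obj ⦋n + 1⦌ ⟶ (cofree F).obj ⦋n⦌ :=
  Pi.lift (f := fun p : Idx ⦋n⦌ => F.obj p.1) fun p => Pi.π (fun p : Idx ⦋n + 1⦌ => F.obj p.1) ⟨p.1, cons0 p.2⟩

lemma δ_zero_contr (n : ℕ) : (cofree F).map (SimplexCategory.δ 0) ≫ contr F n = 𝟙 _ := by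
  refine Pi.hom_ext _ _ fun p => ?_
  simp only [cofree, contr, Category.assoc, Pi.lift_π, Category.id_comp]
  exact π_congr F (δ_zero_cons0 p.2)

lemma δ_succ_contr (n : ℕ) (j : Fin (n + 2)) :
    (cofree F).map (SimplexCategory.δ j.succ) ≫ contr F (n + 1) =
      contr F n ≫ (cofree F).map (SimplexCategory.δ j) := by
  refine Pi.hom_ext _ _ fun p => ?_
  simp only [cofree, contr, Category.assoc, Pi.lift_π]
  exact π_congr F (δ_succ_cons0 p.2 j)

open AlternatingCofaceMapComplex in
lemma contr_d (n : ℕ) :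
    objD (cofree F : CosimplicialObject D) (n + 1) ≫ contr F (n + 1) +
      contr F n ≫ objD (cofree F : CosimplicialObject D) n = 𝟙 _ := by
  rw [objD, objD, Preadditive.sum_comp, Preadditive.comp_sum, Fin.sum_univ_succ]
  simp only [Preadditive.zsmul_comp, Preadditive.comp_zsmul, CosimplicialObject.δ]
  rw [δ_zero_contr]
  simp only [δ_succ_contr, Fin.val_succ, pow_succ, Fin.val_zero, pow_zero, one_smul, mul_neg, mul_one,
    neg_smul, Finset.sum_neg_distrib]
  abel

theorem exactAt_cofree (n : ℕ) :
    ((alternatingCofaceMapComplex D).obj (cofree F)).ExactAt (n + 1) := by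
  rw [HomologicalComplex.exactAt_iff' _ n (n + 1) (n + 1 + 1) (by simp) (by simp),
    ShortComplex.exact_iff_exact_up_to_refinements]
  intro T x hx
  refine ⟨T, 𝟙 T, inferInstance, x ≫ contr F n, ?_⟩
  change x ≫ ((alternatingCofaceMapComplex D).obj (cofree F)).d (n + 1) (n + 1 + 1) = 0 at hx
  show 𝟙 T ≫ x = (x ≫ contr F n) ≫ ((alternatingCofaceMapComplex D).obj (cofree F)).d n (n + 1)
  rw [cx_d] at hx
  rw [cx_d, Category.id_comp, Category.assoc]
  have h := congrArg (fun k => x ≫ k) (contr_d F n)
  simp only [Preadditive.comp_add] at h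
  erw [reassoc_of% hx, zero_comp, zero_add, Category.comp_id] at h
  exact h.symm

theorem isZero_homology_injective [Injective F] (n : ℕ) :
    IsZero (((alternatingCofaceMapComplex D).obj F).homology (n + 1)) := by
  let H := alternatingCofaceMapComplex D ⋙ HomologicalComplex.homologyFunctor D (ComplexShape.up ℕ) (n + 1)
  have hG : IsZero (H.obj (cofree F)) := (HomologicalComplex.exactAt_iff_isZero_homology _ _).1 (exactAt_cofree F n)
  rw [IsZero.iff_id_eq_zero]
  show 𝟙 (H.obj F) = 0
  rw [← H.map_id, show 𝟙 F = unit F ≫ Injective.factorThru (𝟙 F) (unit F) from (Injective.comp_factorThru _ _).symm,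
    H.map_comp, hG.eq_of_tgt (H.map (unit F)) 0, zero_comp]

end Cofree

/-! ### The complex -/

/-- The complex of a cosimplicial object. -/
abbrev cx : (SimplexCategory ⥤ D) ⥤ CochainComplex D ℕ := alternatingCofaceMapComplex D

lemma shortExact_cx {S : ShortComplex (SimplexCategory ⥤ D)} (hS : S.ShortExact) :
    ∃ w : (cx).map S.f ≫ (cx).map S.g = 0, (ShortComplex.mk _ _ w).ShortExact := by
  have w : (cx).map S.f ≫ (cx).map S.g = 0 := by
    ext n
    show S.f.app ⦋n⦌ ≫ S.g.app ⦋n⦌ = 0
    rw [← NatTrans.comp_app, S.zero]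
    rfl
  refine ⟨w, HomologicalComplex.shortExact_of_degreewise_shortExact _ fun n => ?_⟩
  exact hS.map_of_exact ((evaluation SimplexCategory D).obj ⦋n⦌)

lemma vertex_eq {m : SimplexCategory} (a : ⦋0⦌ ⟶ m) : a = SimplexCategory.const ⦋0⦌ m (a.toOrderHom 0) := by
  apply SimplexCategory.Hom.ext
  ext i : 2
  obtain rfl : i = 0 := Subsingleton.elim (α := Fin 1) _ _
  rfl

/-- The edge from `i` to `j`. -/
def edge {m : SimplexCategory} (i j : Fin (m.len + 1)) (h : i ≤ j) : ⦋1⦌ ⟶ m :=
  SimplexCategory.Hom.mk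
    { toFun := ![i, j]
      monotone' := fun a b hab => by
        fin_cases a <;> fin_cases b <;> first | exact le_rfl | exact h | simp_all }

lemma δ_edge {m : SimplexCategory} (i j : Fin (m.len + 1)) (h : i ≤ j) :
    SimplexCategory.δ 1 ≫ edge i j h = SimplexCategory.const ⦋0⦌ m i ∧
      SimplexCategory.δ 0 ≫ edge i j h = SimplexCategory.const ⦋0⦌ m j := by
  constructor <;> (apply SimplexCategory.Hom.ext; ext k : 2; fin_cases k; rfl)

/-- Cocycles in degree zero are compatible families. -/
lemma map_vertex_eq (F : SimplexCategory ⥤ D) {T : D} (x : T ⟶ F.obj ⦋0⦌)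
    (hx : x ≫ F.map (SimplexCategory.δ 0) = x ≫ F.map (SimplexCategory.δ 1))
    {m : SimplexCategory} (a : ⦋0⦌ ⟶ m) :
    x ≫ F.map a = x ≫ F.map (SimplexCategory.const ⦋0⦌ m 0) := by
  conv_lhs => rw [vertex_eq a]
  obtain ⟨h1, h0⟩ := δ_edge (m := m) 0 (a.toOrderHom 0) (Fin.zero_le _)
  rw [← h1, ← h0, F.map_comp, F.map_comp, reassoc_of% hx]

section Lim

variable [HasLimitsOfShape SimplexCategory D]

lemma limπ_d (F : SimplexCategory ⥤ D) (k : ℕ) :
    limit.π F ⦋0⦌ ≫ ((cx).obj F).d 0 k = 0 := by
  by_cases h : (0 : ℕ) + 1 = k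
  · subst h
    show _ ≫ ((alternatingCofaceMapComplex D).obj F).d 0 (0 + 1) = 0
    rw [cx_d]
    simp only [AlternatingCofaceMapComplex.objD, Fin.sum_univ_two, CosimplicialObject.δ]
    simp [Preadditive.comp_add]
  · rw [((cx).obj F).shape 0 k h, comp_zero]

/-- The comparison map from the limit to the zeroth cohomology. -/
def ν : (lim : (SimplexCategory ⥤ D) ⥤ D) ⟶
    cx ⋙ HomologicalComplex.homologyFunctor D (ComplexShape.up ℕ) 0 where
  app F := ((cx).obj F).liftCycles (limit.π F ⦋0⦌) 1 (by simp) (limπ_d F 1) ≫ ((cx).obj F).homologyπ 0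
  naturality F G φ := by
    show lim.map φ ≫ _ = _ ≫ HomologicalComplex.homologyMap ((cx).map φ) 0
    rw [Category.assoc, HomologicalComplex.homologyπ_naturality]
    rw [← Category.assoc, ← Category.assoc]
    congr 1
    rw [← cancel_mono (((cx).obj G).iCycles 0), Category.assoc, HomologicalComplex.liftCycles_i,
      Category.assoc, HomologicalComplex.cyclesMap_i, HomologicalComplex.liftCycles_i_assoc]
    exact limMap_π φ ⦋0⦌

instance (F : SimplexCategory ⥤ D) : IsIso ((ν (D := D)).app F) := by
  let K := (cx).obj F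
  let z : K.cycles 0 ⟶ F.obj ⦋0⦌ := K.iCycles 0
  have hz : z ≫ F.map (SimplexCategory.δ 0) = z ≫ F.map (SimplexCategory.δ 1) := by
    have e : z ≫ AlternatingCofaceMapComplex.objD (F : CosimplicialObject D) 0 = 0 := by
      rw [← cx_d]
      exact K.iCycles_d 0 (0 + 1)
    rw [AlternatingCofaceMapComplex.objD, Fin.sum_univ_two, Preadditive.comp_add] at e
    simp only [Fin.val_zero, pow_zero, one_smul, Fin.val_one, pow_one, neg_smul, Preadditive.comp_neg,
      CosimplicialObject.δ] at e
    exact eq_of_sub_eq_zero ((sub_eq_add_neg _ _).trans e)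
  let c : Cone F :=
    { pt := K.cycles 0
      π :=
        { app := fun m => z ≫ F.map (SimplexCategory.const ⦋0⦌ m 0)
          naturality := fun m m' a => by
            show 𝟙 _ ≫ z ≫ F.map _ = (z ≫ F.map _) ≫ F.map a
            rw [Category.id_comp, Category.assoc, ← F.map_comp]
            exact (map_vertex_eq F z hz _).symm } }
  have : IsIso (K.liftCycles (limit.π F ⦋0⦌) 1 (by simp) (limπ_d F 1)) := by
    refine ⟨⟨limit.lift F c, limit.hom_ext fun m => ?_, ?_⟩⟩
    · rw [Category.assoc, limit.lift_π, Category.id_comp]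
      show K.liftCycles _ 1 _ _ ≫ z ≫ F.map _ = _
      rw [HomologicalComplex.liftCycles_i_assoc]
      exact limit.w F _
    · rw [← cancel_mono (K.iCycles 0), Category.assoc, HomologicalComplex.liftCycles_i, limit.lift_π,
        Category.id_comp]
      show z ≫ F.map _ = z
      rw [show SimplexCategory.const ⦋0⦌ ⦋0⦌ 0 = 𝟙 _ from (vertex_eq (𝟙 _)).symm, F.map_id, Category.comp_id]
  show IsIso (K.liftCycles (limit.π F ⦋0⦌) 1 (by simp) (limπ_d F 1) ≫ K.homologyπ 0)
  infer_instance

variable [HasProducts.{0} D] [EnoughInjectives (SimplexCategory ⥤ D)]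
  [(lim : (SimplexCategory ⥤ D) ⥤ D).Additive]

/-- The derived functors of the limit are the cohomology of the alternating coface complex. -/
theorem nonempty_iso (F : SimplexCategory ⥤ D) (n : ℕ) :
    Nonempty (((lim : (SimplexCategory ⥤ D) ⥤ D).rightDerived n).obj F ≅ ((cx).obj F).homology n) := by
  let G := (lim : (SimplexCategory ⥤ D) ⥤ D)
  haveI : PreservesFiniteLimits G := inferInstance
  let e0 : G.rightDerived 0 ≅ cx ⋙ HomologicalComplex.homologyFunctor D (ComplexShape.up ℕ) 0 :=
    G.rightDerivedZeroIsoSelf ≪≫ (haveI := NatIso.isIso_of_isIso_app (ν (D := D)); asIso ν)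
  induction n generalizing F with
  | zero => exact ⟨e0.app F⟩
  | succ n ih =>
    let L := SESResLib.derivedLES G
    let S := effSES F
    have hS : S.ShortExact := effSES_shortExact F
    haveI hI : Injective S.X₂ := injective_effSES F
    obtain ⟨w, hT⟩ := shortExact_cx hS
    let d₁ := L.δ S hS n (n + 1) rfl
    let d₂ := hT.δ n (n + 1) rfl
    haveI ep₁ : Epi d₁ :=
      (L.exact₁ S hS n (n + 1) rfl).epi_f ((G.isZero_rightDerived_obj_injective_succ n S.X₂).eq_of_tgt _ _)
    haveI ep₂ : Epi d₂ :=
      (hT.homology_exact₁ n (n + 1) rfl).epi_f ((isZero_homology_injective S.X₂ n).eq_of_tgt _ _)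
    cases n with
    | zero =>
      let k₁ := (L.exact₃ S hS 0 1 rfl).gIsCokernel
      let k₂ := (hT.homology_exact₃ 0 1 rfl).gIsCokernel
      have nat : (G.rightDerived 0).map S.g ≫ e0.hom.app S.X₃ =
          e0.hom.app S.X₂ ≫ HomologicalComplex.homologyMap ((cx).map S.g) 0 := e0.hom.naturality S.g
      exact ⟨CokernelCofork.mapIsoOfIsColimit k₁ k₂
        (Arrow.isoMk (e0.app S.X₂) (e0.app S.X₃) nat.symm)⟩
    | succ n =>
      haveI : IsIso d₁ := by
        haveI : Mono d₁ := (L.exact₃ S hS (n + 1) (n + 1 + 1) rfl).mono_g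
          ((G.isZero_rightDerived_obj_injective_succ n S.X₂).eq_of_src _ _)
        exact isIso_of_mono_of_epi _
      haveI : IsIso d₂ := by
        haveI : Mono d₂ := (hT.homology_exact₃ (n + 1) (n + 1 + 1) rfl).mono_g
          ((isZero_homology_injective S.X₂ n).eq_of_src _ _)
        exact isIso_of_mono_of_epi _
      obtain ⟨e⟩ := ih S.X₃
      exact ⟨(asIso d₁).symm ≪≫ e ≪≫ asIso d₂⟩

end Lim

end Groth.Agent.CosimpLim
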